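import Cfsg.Agent.Lib.Helper71.GS.Small
import Cfsg.Agent.Lib.Helper71.QuatOdd
import Cfsg.Agent.Lib.Helper9.GSSEMI
import Cfsg.Agent.Lib.Helper9.GSGEN81
import Cfsg.Agent.Lib.Helper9.GSSTAB9
import Cfsg.Agent.Lib.Helper9.GSSTAB1
import Cfsg.Agent.Lib.Helper1.Cores
import Cfsg.Agent.S3360

set_option autoImplicit false

namespace Cfsg.Agent.Lib.Helper71.GS

open Cfsg.Agent.Lib.Helper1 Cfsg.Agent.Lib.Helper9.GS

/-- an element of order `p` forces `p = 3` and `O_2(X)` quaternion of order eight -/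
theorem key {p : ℕ} [Fact p.Prime] {X : Type*} [Group X] [Finite X] [Group.IsSolvable X]
    {V : Type*} [AddCommGroup V] [Module (ZMod p) V] [Finite V] [Nontrivial V]
    {ρ : X →* (V ≃ₗ[ZMod p] V)} (L : LA p ρ) (hc : Cfsg.pCore p X = ⊥) (hp2 : p ≠ 2)
    (hm : ∀ r : ℕ, r.Prime → r ≠ 2 → r ∣ Nat.card V - 1 →
      ¬ r ^ 2 ∣ Nat.card V - 1 ∧ ¬ p ∣ r - 1)
    (g : X) (hg : orderOf g = p) :
    p = 3 ∧ Nonempty (↥(Cfsg.pCore 2 X) ≃* QuaternionGroup 2) := by
  have hp : p.Prime := Fact.out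
  obtain ⟨r, hr, hrp, q, hq, hgq⟩ := exists_core p hc g hg
  have := Fact.mk hr
  have hnorm : ∀ u ∈ Cfsg.pCore r X, g * u * g⁻¹ ∈ Cfsg.pCore r X :=
    fun u hu => (pCore_normal r X).conj_mem u hu g
  have hgp : g ^ p = 1 := by rw [← hg]; exact pow_orderOf_eq_one g
  obtain ⟨v, hv⟩ := exists_ne (0 : V)
  obtain ⟨a, ha⟩ := IsPGroup.iff_card.1 (stab_pgroup L v hv)
  have hcard := card_stab L v hv
  rw [ha] at hcard
  obtain ⟨b, hb⟩ := IsPGroup.iff_card.1 (pCore_isPGroup r X)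
  have hdvd : r ^ b ∣ Nat.card V - 1 := by
    have h1 : r ^ b ∣ (Nat.card V - 1) * p ^ a := by
      rw [← hcard, ← hb]; exact Subgroup.card_subgroup_dvd_card _
    exact Nat.Coprime.dvd_of_dvd_mul_right
      (Nat.Coprime.pow _ _ ((Nat.coprime_primes hr hp).2 hrp)) h1
  by_cases hr2 : r = 2
  · subst hr2
    have ho : (orderOf g).Coprime 2 := by
      rw [hg]; exact (Nat.coprime_primes hp Nat.prime_two).2 hp2
    have hnm : g ∈ Subgroup.normalizer ((Cfsg.pCore 2 X : Subgroup X) : Set X) :=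
      (Subgroup.normalizer_eq_top_iff.2 (pCore_normal 2 X)) ▸ Subgroup.mem_top g
    have hQ8 := Cfsg.Agent.Lib.Helper71.q8_of_odd_action (Cfsg.pCore 2 X) (pCore_isPGroup 2 X)
      (fun x _ y _ hx hy => invol_unique L hp2 x y hx hy) g hnm ho ⟨q, hq, hgq⟩
    refine ⟨?_, hQ8⟩
    obtain ⟨e⟩ := hQ8
    by_contra h3
    have h3' : ¬ 3 ∣ p := fun h => h3 (((Nat.prime_dvd_prime_iff_eq Nat.prime_three hp).1 h).symm)
    have := q8_cent (Cfsg.pCore 2 X) e g hnorm p (hp.odd_of_ne_two hp2) h3' hgp q hq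
    apply hgq
    calc g * q = (g * q * g⁻¹) * g := by group
      _ = q * g := by rw [this]
  · exfalso
    have hb0 : b ≠ 0 := by
      rintro rfl
      rw [pow_zero] at hb
      have : q = 1 := by
        have h1 := (Subgroup.card_eq_one.1 hb)
        rw [h1] at hq
        exact Subgroup.mem_bot.1 hq
      apply hgq; rw [this]; simp
    have hrd : r ∣ Nat.card V - 1 := (dvd_pow_self r hb0).trans hdvd
    obtain ⟨h1, h2⟩ := hm r hr hr2 hrd
    have hb1 : b = 1 := by
      by_contra hne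
      have : 2 ≤ b := by omega
      exact h1 ((pow_dvd_pow r this).trans hdvd)
    rw [hb1, pow_one] at hb
    exact hgq (cent_prime (Cfsg.pCore r X) r p hr hp hb g hnorm hgp h2 q hq)

theorem p_dvd_card {p : ℕ} [Fact p.Prime] {V : Type*} [AddCommGroup V] [Module (ZMod p) V]
    [Finite V] [Nontrivial V] : p ∣ Nat.card V := by
  have h := Module.natCard_eq_pow_finrank (K := ZMod p) (V := V)
  rw [Nat.card_zmod] at h
  rw [h]
  exact dvd_pow_self p (Module.finrank_pos (R := ZMod p) (M := V)).ne'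

theorem concl_of_not_dvd {p : ℕ} [Fact p.Prime] {X : Type*} [Group X] [Finite X]
    (h : ¬ p ∣ Nat.card X) : Concl p X := by
  have hp : p.Prime := Fact.out
  refine npc_of_metab p ⊤ ?_ (fun _ _ => Subgroup.mem_top _)
  rw [Subgroup.card_top]
  exact ((Nat.Prime.coprime_iff_not_dvd hp).2 h).symm

theorem concl_of_key {p : ℕ} [Fact p.Prime] {X : Type*} [Group X] [Finite X] [Group.IsSolvable X]
    {V : Type*} [AddCommGroup V] [Module (ZMod p) V] [Finite V] [Nontrivial V]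
    {ρ : X →* (V ≃ₗ[ZMod p] V)} (L : LA p ρ) (hc : Cfsg.pCore p X = ⊥) (hp2 : p ≠ 2)
    (hm : ∀ r : ℕ, r.Prime → r ≠ 2 → r ∣ Nat.card V - 1 →
      ¬ r ^ 2 ∣ Nat.card V - 1 ∧ ¬ p ∣ r - 1) (h3 : p ≠ 3) : Concl p X := by
  by_cases hpX : p ∣ Nat.card X
  · obtain ⟨g, hg⟩ := exists_prime_orderOf_dvd_card' p hpX
    exact absurd (key L hc hp2 hm g hg).1 h3
  · exact concl_of_not_dvd hpX

theorem odd_prime_dvd {r : ℕ} (hr : r.Prime) (hr2 : r ≠ 2) {k n : ℕ} (h : r ∣ 2 ^ k * n) :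
    r ∣ n := by
  rcases (Nat.Prime.dvd_mul hr).1 h with h | h
  · exact absurd ((Nat.prime_dvd_prime_iff_eq hr Nat.prime_two).1 (hr.dvd_of_dvd_pow h)) hr2
  · exact h

theorem c81 {X : Type*} [Group X] [Finite X] {V : Type*}
    [AddCommGroup V] [Module (ZMod 3) V] [Finite V] [Nontrivial V]
    {ρ : X →* (V ≃ₗ[ZMod 3] V)} (L : LA 3 ρ) (hV : Nat.card V = 81) (y i j : X)
    (hy : orderOf y = 5) (hyi : y * i = i * y) (hyj : y * j = j * y) : i * j = j * i := by
  obtain ⟨v, hv⟩ := exists_ne (0 : V)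
  have hgen := gen81 L hV y hy v hv
  have hcomm : ∀ (c : X), y * c = c * y → ∀ w, ρ c (ρ y w) = ρ y (ρ c w) := by
    intro c hc w
    rw [← LinearEquiv.mul_apply, ← LinearEquiv.mul_apply, ← map_mul, ← map_mul, hc]
  have h := comm_of_cyclic (ρ y).toAddEquiv.toAddMonoidHom (ρ i).toAddEquiv.toAddMonoidHom
    (ρ j).toAddEquiv.toAddMonoidHom v hgen (hcomm i hyi) (hcomm j hyj)
  apply L.inj
  ext w
  rw [map_mul, map_mul, LinearEquiv.mul_apply, LinearEquiv.mul_apply]
  exact h w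

theorem exc3 {X : Type*} [Group X] [Finite X] [Group.IsSolvable X]
    {V : Type*} [AddCommGroup V] [Module (ZMod 3) V] [Finite V] [Nontrivial V]
    {ρ : X →* (V ≃ₗ[ZMod 3] V)} (L : LA 3 ρ) (hc : Cfsg.pCore 3 X = ⊥)
    (hV : Nat.card V = 9 ∨ Nat.card V = 81) : Concl 3 X := by
  have : Fact (Nat.Prime 3) := ⟨Nat.prime_three⟩
  by_cases hpX : 3 ∣ Nat.card X
  swap
  · exact concl_of_not_dvd hpX
  obtain ⟨g, hg⟩ := exists_prime_orderOf_dvd_card' 3 hpX
  have hm : ∀ r : ℕ, r.Prime → r ≠ 2 → r ∣ Nat.card V - 1 →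
      ¬ r ^ 2 ∣ Nat.card V - 1 ∧ ¬ 3 ∣ r - 1 := by
    intro r hr hr2 hrd
    rcases hV with h | h
    · rw [h] at hrd
      have h1 : r ∣ 1 := odd_prime_dvd hr hr2 (k := 3) (n := 1) (by norm_num at hrd ⊢; exact hrd)
      exact absurd (Nat.dvd_one.1 h1) hr.one_lt.ne'
    · rw [h] at hrd ⊢
      have h1 : r ∣ 5 := odd_prime_dvd hr hr2 (k := 4) (n := 5) (by norm_num at hrd ⊢; exact hrd)
      have h2 : r = 5 := (Nat.prime_dvd_prime_iff_eq hr Nat.prime_five).1 h1
      subst h2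
      constructor <;> norm_num
  obtain ⟨-, ⟨e⟩⟩ := key L hc (by norm_num) hm g hg
  obtain ⟨v, hv⟩ := exists_ne (0 : V)
  have hcard := card_stab L v hv
  have hK : Nat.card (Cfsg.pCore 2 X) = 8 := by
    rw [Nat.card_congr e.toEquiv, Nat.card_eq_fintype_card, QuaternionGroup.card]
  have hKn : (Cfsg.pCore 2 X).Normal := pCore_normal 2 X
  rcases hV with h | h
  · rw [h] at hcard
    have h9 := stab9 L h v hv
    have hidx : (Cfsg.pCore 2 X).index = Nat.card (stab ρ v) := by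
      have h1 := Subgroup.card_mul_index (Cfsg.pCore 2 X)
      rw [hK, hcard] at h1
      norm_num at h1
      exact h1
    exact concl_of_index 3 (Cfsg.pCore 2 X) (by rw [hK]; norm_num) (by rw [hidx]; exact h9)
  · exfalso
    rw [h] at hcard
    have h5 : 5 ∣ Nat.card X := by
      rw [hcard]; exact Dvd.dvd.mul_right (by norm_num) _
    have : Fact (Nat.Prime 5) := ⟨Nat.prime_five⟩
    obtain ⟨y, hy⟩ := exists_prime_orderOf_dvd_card' 5 h5
    have hyc := q8_cent (Cfsg.pCore 2 X) e y (fun u hu => hKn.conj_mem u hu y) 5 (by decide)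
      (by norm_num) (by rw [← hy]; exact pow_orderOf_eq_one y)
    have hyc' : ∀ u ∈ Cfsg.pCore 2 X, y * u = u * y := by
      intro u hu
      calc y * u = (y * u * y⁻¹) * y := by group
        _ = u * y := by rw [hyc u hu]
    have hij := c81 L h y (e.symm (QuaternionGroup.a 1) : Cfsg.pCore 2 X)
      (e.symm (QuaternionGroup.xa 0) : Cfsg.pCore 2 X) hy (hyc' _ (SetLike.coe_mem _))
      (hyc' _ (SetLike.coe_mem _))
    have h2 : e.symm (QuaternionGroup.a 1) * e.symm (QuaternionGroup.xa 0)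
        = e.symm (QuaternionGroup.xa 0) * e.symm (QuaternionGroup.a 1) := Subtype.ext hij
    rw [← map_mul, ← map_mul] at h2
    have h3 := e.symm.injective h2
    revert h3
    decide

theorem exc {p : ℕ} [Fact p.Prime] {X : Type*} [Group X] [Finite X] [Group.IsSolvable X]
    {V : Type*} [AddCommGroup V] [Module (ZMod p) V] [Finite V] [Nontrivial V]
    {ρ : X →* (V ≃ₗ[ZMod p] V)} (L : LA p ρ) (hc : Cfsg.pCore p X = ⊥)
    (hV : Nat.card V ∈ ({9, 25, 49, 121, 529, 81} : Set ℕ)) : Concl p X := by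
  have hp : p.Prime := Fact.out
  have hpV : p ∣ Nat.card V := p_dvd_card
  simp only [Set.mem_insert_iff, Set.mem_singleton_iff] at hV
  have pe : ∀ s k : ℕ, s.Prime → Nat.card V = s ^ k → p = s := by
    intro s k hs h
    rw [h] at hpV
    exact (Nat.prime_dvd_prime_iff_eq hp hs).1 (hp.dvd_of_dvd_pow hpV)
  rcases hV with h | h | h | h | h | h
  · have := pe 3 2 Nat.prime_three (by rw [h]; norm_num)
    subst this
    exact exc3 L hc (Or.inl h)
  · have := pe 5 2 Nat.prime_five (by rw [h]; norm_num)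
    subst this
    refine concl_of_key L hc (by norm_num) ?_ (by norm_num)
    intro r hr hr2 hrd
    rw [h] at hrd ⊢
    have h1 : r ∣ 3 := odd_prime_dvd hr hr2 (k := 3) (n := 3) (by norm_num at hrd ⊢; exact hrd)
    have h2 : r = 3 := (Nat.prime_dvd_prime_iff_eq hr Nat.prime_three).1 h1
    subst h2
    constructor <;> norm_num
  · have := pe 7 2 (by norm_num) (by rw [h]; norm_num)
    subst this
    refine concl_of_key L hc (by norm_num) ?_ (by norm_num)
    intro r hr hr2 hrd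
    rw [h] at hrd ⊢
    have h1 : r ∣ 3 := odd_prime_dvd hr hr2 (k := 4) (n := 3) (by norm_num at hrd ⊢; exact hrd)
    have h2 : r = 3 := (Nat.prime_dvd_prime_iff_eq hr Nat.prime_three).1 h1
    subst h2
    constructor <;> norm_num
  · have := pe 11 2 (by norm_num) (by rw [h]; norm_num)
    subst this
    refine concl_of_key L hc (by norm_num) ?_ (by norm_num)
    intro r hr hr2 hrd
    rw [h] at hrd ⊢
    have h1 : r ∣ 3 * 5 := odd_prime_dvd hr hr2 (k := 3) (n := 3 * 5)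
      (by norm_num at hrd ⊢; exact hrd)
    rcases (Nat.Prime.dvd_mul hr).1 h1 with h1 | h1
    · have h2 : r = 3 := (Nat.prime_dvd_prime_iff_eq hr Nat.prime_three).1 h1
      subst h2
      constructor <;> norm_num
    · have h2 : r = 5 := (Nat.prime_dvd_prime_iff_eq hr Nat.prime_five).1 h1
      subst h2
      constructor <;> norm_num
  · have := pe 23 2 (by norm_num) (by rw [h]; norm_num)
    subst this
    refine concl_of_key L hc (by norm_num) ?_ (by norm_num)
    intro r hr hr2 hrd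
    rw [h] at hrd ⊢
    have h1 : r ∣ 3 * 11 := odd_prime_dvd hr hr2 (k := 4) (n := 3 * 11)
      (by norm_num at hrd ⊢; exact hrd)
    rcases (Nat.Prime.dvd_mul hr).1 h1 with h1 | h1
    · have h2 : r = 3 := (Nat.prime_dvd_prime_iff_eq hr Nat.prime_three).1 h1
      subst h2
      constructor <;> norm_num
    · have h2 : r = 11 := (Nat.prime_dvd_prime_iff_eq hr (by norm_num)).1 h1
      subst h2
      constructor <;> norm_num
  · have := pe 3 4 Nat.prime_three (by rw [h]; norm_num)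
    subst this
    exact exc3 L hc (Or.inr h)

theorem main_abs {p : ℕ} [Fact p.Prime] {X : Type*} [Group X] [Finite X] [hs : Group.IsSolvable X]
    {V : Type*} [AddCommGroup V] [Module (ZMod p) V] [Finite V] [Nontrivial V]
    {ρ : X →* (V ≃ₗ[ZMod p] V)} (L : LA p ρ) (hc : Cfsg.pCore p X = ⊥) : Concl p X := by
  rcases Cfsg.Agent.S3360.result p hs ρ L.inj L.trans with ⟨F, _, _, e, h⟩ | h
  · obtain ⟨K, hKn, hK, hab⟩ := semilin ρ L.inj F e h
    exact npc_of_metab p K hK hab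
  · exact exc L hc h

end Cfsg.Agent.Lib.Helper71.GS
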