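import Cfsg.Agent.Lib.Helper71.GS.Defs
import Cfsg.Prelude.Def_CaseTheorems
import Cfsg.Agent.Lib.Helper71.Q8Act
import Cfsg.Agent.Lib.Helper1.Cores
import Cfsg.Agent.Lib.Helper1.TFpf3
import Cfsg.Agent.Lib.Helper40.PComp
import Cfsg.Agent.Lib.Helper55.SolvJ
import Cfsg.Agent.Lib.Helper31.CNSolv

set_option autoImplicit false

namespace Cfsg.Agent.Lib.Helper71.GS

open Cfsg.Agent.Lib.Helper1

/-- INV -/
theorem invol_unique {p : ℕ} [Fact p.Prime] {X : Type*} [Group X] {V : Type*}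
    [AddCommGroup V] [Module (ZMod p) V]
    {ρ : X →* (V ≃ₗ[ZMod p] V)} (L : LA p ρ) (hp2 : p ≠ 2) :
    ∀ x y : X, orderOf x = 2 → orderOf y = 2 → x = y := by
  have hp : p.Prime := Fact.out
  have key : ∀ x : X, orderOf x = 2 → ∀ v, ρ x v = -v := by
    intro x hx v
    by_contra hne
    have hxx : ρ x (ρ x v) = v := by
      rw [← LinearEquiv.mul_apply, ← map_mul, ← pow_two, ← hx, pow_orderOf_eq_one, map_one]
      rfl
    have hfix : ρ x (v + ρ x v) = v + ρ x v := by
      rw [map_add, hxx, add_comm]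
    have hne0 : v + ρ x v ≠ 0 := by
      intro h
      exact hne (eq_neg_of_add_eq_zero_right h)
    have := L.fix x _ hne0 hfix
      (by rw [hx]; exact (Nat.coprime_primes Nat.prime_two hp).2 (Ne.symm hp2))
    rw [this, orderOf_one] at hx
    norm_num at hx
  intro x y hx hy
  apply L.inj
  ext v
  rw [key x hx, key y hy]

/-- STAB2 -/
theorem stab_pgroup {p : ℕ} [Fact p.Prime] {X : Type*} [Group X] [Finite X] {V : Type*}
    [AddCommGroup V] [Module (ZMod p) V]
    {ρ : X →* (V ≃ₗ[ZMod p] V)} (L : LA p ρ) (v : V) (hv : v ≠ 0) :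
    IsPGroup p (stab ρ v) := by
  rintro ⟨g, hg⟩
  obtain ⟨a, ha⟩ := Cfsg.Agent.Lib.Helper40.exists_pow_coprime p g
  refine ⟨a, ?_⟩
  apply Subtype.ext
  have h2 : g ^ p ^ a ∈ stab ρ v := (stab ρ v).pow_mem hg _
  exact L.fix _ v hv h2 ha

/-- Q8C -/
theorem q8_cent {X : Type*} [Group X] (U : Subgroup X) (e : U ≃* QuaternionGroup 2) (g : X)
    (hgU : ∀ u ∈ U, g * u * g⁻¹ ∈ U) (m : ℕ) (hm : Odd m) (h3 : ¬ 3 ∣ m) (hgm : g ^ m = 1) :
    ∀ u ∈ U, g * u * g⁻¹ = u := by
  by_contra hcon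
  push Not at hcon
  obtain ⟨i, j, hi, hj, hoi, hjj, hji, hjn, hgi, hgj, -, -⟩ :=
    Cfsg.Agent.Lib.Helper71.q8_action U e g hgU m hm hgm hcon
  have h1 : g * (i * j) * g⁻¹ = i := by
    calc g * (i * j) * g⁻¹ = (g * i * g⁻¹) * (g * j * g⁻¹) := by group
      _ = j * (i * j) := by rw [hgi, hgj]
      _ = (j * i * j⁻¹) * (j * j) := by group
      _ = i⁻¹ * i ^ 2 := by rw [hji, hjj]
      _ = i := by group
  have h3' : g ^ 3 * i = i * g ^ 3 := by
    calc g ^ 3 * i = g * (g * (g * i * g⁻¹) * g⁻¹) * g⁻¹ * g ^ 3 := by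
          simp only [pow_succ, pow_zero, one_mul]; group
      _ = i * g ^ 3 := by rw [hgi, hgj, h1]
  have hco : Nat.Coprime 3 m := (Nat.Prime.coprime_iff_not_dvd Nat.prime_three).2 h3
  have h4 := Cfsg.Agent.Lib.Helper71.comm_of_pow_comm g i m 3 hgm hco h3'
  have hij : j = i := by rw [← hgi, h4]; group
  exact hjn (hij ▸ Subgroup.mem_zpowers i)

/-- UNIQ -/
theorem uniq {G : Type*} [Group G] [Finite G] {p : ℕ} [Fact p.Prime] (N : Subgroup G) [N.Normal]
    (hN1 : N ≠ ⊥) (hNp : IsPGroup p N)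
    (hmin : ∀ K : Subgroup G, K.Normal → K ≠ ⊥ → N ≤ K) :
    ∀ q : ℕ, q.Prime → (Cfsg.pCore q G ≠ ⊥ ↔ q = p) := by
  intro q hq
  have hp : p.Prime := Fact.out
  have := Fact.mk hq
  constructor
  · intro h
    have hle := hmin _ (Cfsg.Agent.Lib.Helper1.pCore_normal q G) h
    have hNq : IsPGroup q N := (pCore_isPGroup q G).to_le hle
    obtain ⟨a, ha⟩ := IsPGroup.iff_card.1 hNp
    obtain ⟨b, hb⟩ := IsPGroup.iff_card.1 hNq
    have ha0 : a ≠ 0 := by
      rintro rfl
      rw [pow_zero] at ha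
      exact hN1 (Subgroup.card_eq_one.1 ha)
    have h1 : p ∣ q ^ b := by rw [← hb, ha]; exact dvd_pow_self p ha0
    exact ((Nat.prime_dvd_prime_iff_eq hp hq).1 (hp.dvd_of_dvd_pow h1)).symm
  · rintro rfl h
    have h1 : N ≤ Cfsg.pCore q G := le_pCore inferInstance hNp
    rw [h] at h1
    exact hN1 (le_bot_iff.1 h1)

/-- CORE -/
theorem exists_core {X : Type*} [Group X] [Finite X] [Group.IsSolvable X] (p : ℕ) [Fact p.Prime]
    (hc : Cfsg.pCore p X = ⊥) (g : X) (hg : orderOf g = p) :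
    ∃ r : ℕ, r.Prime ∧ r ≠ p ∧ ∃ q ∈ Cfsg.pCore r X, g * q ≠ q * g := by
  have hp : p.Prime := Fact.out
  by_contra hcon
  push Not at hcon
  have hall : ∀ r : Nat.Primes, Cfsg.pCore (r : ℕ) X ≤ Subgroup.centralizer {g} := by
    intro r q hq
    rw [Subgroup.mem_centralizer_singleton_iff]
    by_cases h : (r : ℕ) = p
    · rw [h, hc] at hq
      rw [Subgroup.mem_bot.1 hq]; simp
    · exact (hcon r r.2 h q hq).symm
  have hF : Cfsg.fittingSubgroup X ≤ Subgroup.centralizer {g} := by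
    rw [fitting_eq_iSup_pCore]; exact iSup_le hall
  have hg' : g ∈ Subgroup.centralizer (Cfsg.fittingSubgroup X : Set X) := by
    rw [Subgroup.mem_centralizer_iff]
    intro h hh
    have := hF hh
    rw [Subgroup.mem_centralizer_singleton_iff] at this
    exact this
  have hgF := Cfsg.Agent.Lib.Helper55.centralizer_fitting_le hg'
  have hco := Cfsg.Agent.Lib.Helper31.fitting_card_coprime hp hc
  have h1 : p ∣ Nat.card (Cfsg.fittingSubgroup X) := by
    rw [← hg]; exact Subgroup.orderOf_dvd_natCard _ hgF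
  exact hp.one_lt.ne' (Nat.Coprime.eq_one_of_dvd hco.symm h1)

/-- DBL -/
theorem comm_of_cyclic {V : Type*} [AddCommGroup V] (y a b : V →+ V) (v : V)
    (hgen : AddSubgroup.closure (Set.range fun n : ℕ => (⇑y)^[n] v) = ⊤)
    (hay : ∀ w, a (y w) = y (a w)) (hby : ∀ w, b (y w) = y (b w)) : ∀ w, a (b w) = b (a w) := by
  have hQ : ∀ w : V, ∃ φ : V →+ V, φ v = w ∧
      ∀ c : V →+ V, (∀ u, c (y u) = y (c u)) → ∀ u, c (φ u) = φ (c u) := by
    intro w
    have hw : w ∈ AddSubgroup.closure (Set.range fun n : ℕ => (⇑y)^[n] v) := by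
      rw [hgen]; exact AddSubgroup.mem_top w
    induction hw using AddSubgroup.closure_induction with
    | mem x hx =>
      obtain ⟨n, rfl⟩ := hx
      induction n with
      | zero => exact ⟨AddMonoidHom.id V, rfl, fun c _ u => rfl⟩
      | succ n ih =>
        obtain ⟨φ, h1, h2⟩ := ih
        refine ⟨y.comp φ, ?_, ?_⟩
        · simp only [AddMonoidHom.comp_apply, h1, Function.iterate_succ_apply']
        · intro c hc u
          simp only [AddMonoidHom.comp_apply]
          rw [hc, h2 c hc]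
    | zero => exact ⟨0, rfl, fun c _ u => by simp⟩
    | add x z _ _ hx hz =>
      obtain ⟨φ, h1, h2⟩ := hx
      obtain ⟨ψ, h3, h4⟩ := hz
      refine ⟨φ + ψ, by simp [h1, h3], ?_⟩
      intro c hc u
      simp only [AddMonoidHom.add_apply, map_add]
      rw [h2 c hc, h4 c hc]
    | neg x _ hx =>
      obtain ⟨φ, h1, h2⟩ := hx
      refine ⟨-φ, by simp [h1], ?_⟩
      intro c hc u
      simp only [AddMonoidHom.neg_apply, map_neg]
      rw [h2 c hc]
  obtain ⟨φ, h1, h2⟩ := hQ (a v)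
  obtain ⟨ψ, h3, h4⟩ := hQ (b v)
  have hψy : ∀ u, ψ (y u) = y (ψ u) := fun u => (h4 y (fun _ => rfl) u).symm
  have hv : a (b v) = b (a v) := by
    calc a (b v) = a (ψ v) := by rw [h3]
      _ = ψ (a v) := h4 a hay v
      _ = ψ (φ v) := by rw [h1]
      _ = φ (ψ v) := h2 ψ hψy v
      _ = φ (b v) := by rw [h3]
      _ = b (φ v) := (h2 b hby v).symm
      _ = b (a v) := by rw [h1]
  intro w
  obtain ⟨χ, h5, h6⟩ := hQ w
  calc a (b w) = a (b (χ v)) := by rw [h5]
    _ = a (χ (b v)) := by rw [h6 b hby]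
    _ = χ (a (b v)) := h6 a hay _
    _ = χ (b (a v)) := by rw [hv]
    _ = b (χ (a v)) := (h6 b hby _).symm
    _ = b (a (χ v)) := by rw [h6 a hay]
    _ = b (a w) := by rw [h5]

/-- MET -/
theorem npc_of_metab {X : Type*} [Group X] [Finite X] (p : ℕ) [Fact p.Prime] (K : Subgroup X)
    [K.Normal] (hK : (Nat.card K).Coprime p) (hab : ∀ a b : X, a * b * a⁻¹ * b⁻¹ ∈ K) :
    Concl p X := by
  have hp : p.Prime := Fact.out
  constructor
  · let _ : CommGroup (X ⧸ K) :=
      { (inferInstance : Group (X ⧸ K)) with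
        mul_comm := by
          intro a b
          obtain ⟨a, rfl⟩ := QuotientGroup.mk_surjective a
          obtain ⟨b, rfl⟩ := QuotientGroup.mk_surjective b
          have h := (QuotientGroup.eq_one_iff (N := K) _).2 (hab a b)
          have h2 : ((a : X ⧸ K) * b) * ((b : X ⧸ K) * a)⁻¹ = 1 := by
            rw [← h]
            simp only [QuotientGroup.mk_mul, QuotientGroup.mk_inv, mul_inv_rev, mul_assoc]
          exact mul_inv_eq_one.1 h2 }
    have hnil : Cfsg.HasNormalPComplement p (X ⧸ K) :=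
      hasNormalPComplement_of_isNilpotent p
    obtain ⟨Kb, hKbn, hKbc, -, hKbm⟩ :=
      Cfsg.Agent.Lib.Helper40.HasNormalPComplement.exists_normal hnil
    have hWn : (Kb.comap (QuotientGroup.mk' K)).Normal := hKbn.comap _
    have hord : ∀ g ∈ Kb.comap (QuotientGroup.mk' K), (orderOf g).Coprime p := by
      intro g hg
      have h1 : (orderOf (g : X ⧸ K)).Coprime p := (hKbm _).1 hg
      have h2 : g ^ orderOf (g : X ⧸ K) ∈ K := by
        rw [← QuotientGroup.eq_one_iff, QuotientGroup.mk_pow, pow_orderOf_eq_one]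
      have h3 : (orderOf (g ^ orderOf (g : X ⧸ K))).Coprime p :=
        Nat.Coprime.coprime_dvd_left (Subgroup.orderOf_dvd_natCard K h2) hK
      have h4 : orderOf g ∣ orderOf (g : X ⧸ K) * orderOf (g ^ orderOf (g : X ⧸ K)) := by
        apply orderOf_dvd_of_pow_eq_one
        rw [pow_mul, pow_orderOf_eq_one]
      exact Nat.Coprime.coprime_dvd_left h4 (Nat.Coprime.mul_left h1 h3)
    refine Cfsg.Agent.Lib.Helper40.hasNormalPComplement_of_coprime_mem
      (Kb.comap (QuotientGroup.mk' K)) ?_ ?_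
    · rw [Nat.coprime_comm, Nat.Prime.coprime_iff_not_dvd hp]
      intro hd
      obtain ⟨g, hg⟩ := exists_prime_orderOf_dvd_card' (G := Kb.comap (QuotientGroup.mk' K)) p hd
      have h1 := hord g g.2
      rw [Subgroup.orderOf_coe, hg] at h1
      exact hp.one_lt.ne' ((Nat.coprime_self p).1 h1)
    · intro g hg
      apply (hKbm _).2
      exact Nat.Coprime.coprime_dvd_left (orderOf_map_dvd (QuotientGroup.mk' K) g) hg
  · intro Q
    refine ⟨⟨fun a b => ?_⟩⟩
    apply Subtype.ext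
    have h1 : (a : X) * b * (a : X)⁻¹ * (b : X)⁻¹ ∈ K := hab a b
    have h2 : (a : X) * b * (a : X)⁻¹ * (b : X)⁻¹ ∈ (Q : Subgroup X) :=
      (Q : Subgroup X).mul_mem ((Q : Subgroup X).mul_mem ((Q : Subgroup X).mul_mem a.2 b.2)
        ((Q : Subgroup X).inv_mem a.2)) ((Q : Subgroup X).inv_mem b.2)
    have h3 : (orderOf ((a : X) * b * (a : X)⁻¹ * (b : X)⁻¹)).Coprime p :=
      Nat.Coprime.coprime_dvd_left (Subgroup.orderOf_dvd_natCard K h1) hK
    obtain ⟨k, hk⟩ := (IsPGroup.iff_orderOf.1 Q.2) ⟨_, h2⟩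
    rw [Subgroup.orderOf_mk] at hk
    rw [hk] at h3
    have h4 : orderOf ((a : X) * b * (a : X)⁻¹ * (b : X)⁻¹) = 1 := by
      rw [hk]
      rcases Nat.eq_zero_or_pos k with rfl | hk0
      · rfl
      · exact absurd ((Nat.coprime_pow_left_iff hk0 p p).1 h3 |> (Nat.coprime_self p).1)
          hp.one_lt.ne'
    have h5 := orderOf_eq_one_iff.1 h4
    show (a : X) * b = b * a
    calc (a : X) * b = ((a : X) * b * (a : X)⁻¹ * (b : X)⁻¹) * (b * a) := by group
      _ = b * a := by rw [h5, one_mul]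

/-- HALL -/
theorem concl_of_index {X : Type*} [Group X] [Finite X] (p : ℕ) [Fact p.Prime] (K : Subgroup X)
    [K.Normal] (hK : (Nat.card K).Coprime p) (hidx : K.index ∣ p) : Concl p X := by
  have hp : p.Prime := Fact.out
  apply npc_of_metab p K hK
  have hcomm : ∀ a b : X ⧸ K, a * b = b * a := by
    rcases (Nat.dvd_prime hp).1 hidx with h | h
    · rw [Subgroup.index_eq_card] at h
      have : Subsingleton (X ⧸ K) := (Nat.card_eq_one_iff_unique.1 h).1
      intro a b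
      exact Subsingleton.elim _ _
    · rw [Subgroup.index_eq_card] at h
      have hc : IsCyclic (X ⧸ K) := isCyclic_of_prime_card h
      intro a b
      exact (IsCyclic.commGroup (α := X ⧸ K)).mul_comm a b
  intro a b
  rw [← QuotientGroup.eq_one_iff]
  simp only [QuotientGroup.mk_mul, QuotientGroup.mk_inv]
  rw [hcomm (a : X ⧸ K) b]
  group

/-- CPR -/
theorem cent_prime {X : Type*} [Group X] [Finite X] (R : Subgroup X) (r p : ℕ) (hr : r.Prime)
    (hp : p.Prime) (hR : Nat.card R = r) (g : X) (hg : ∀ q ∈ R, g * q * g⁻¹ ∈ R)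
    (hgp : g ^ p = 1) (hpr : ¬ p ∣ r - 1) : ∀ q ∈ R, g * q = q * g := by
  have := Fact.mk hr
  have hne : R ≠ ⊥ := by
    intro h
    rw [h, Subgroup.card_bot] at hR
    exact hr.one_lt.ne hR
  obtain ⟨⟨x, hxR⟩, hx1⟩ := (Subgroup.ne_bot_iff_exists_ne_one).1 hne
  have hx1' : x ≠ 1 := fun h => hx1 (Subtype.ext h)
  have hox : orderOf x = r := by
    have h1 : orderOf x ∣ r := hR ▸ Subgroup.orderOf_dvd_natCard R hxR
    rcases (Nat.dvd_prime hr).1 h1 with h | h
    · exact absurd (orderOf_eq_one_iff.1 h) hx1'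
    · exact h
  have hRz : Subgroup.zpowers x = R := by
    apply Subgroup.eq_of_le_of_card_ge (Subgroup.zpowers_le.2 hxR)
    rw [Nat.card_zpowers, hox, hR]
  have hgx : g * x * g⁻¹ ∈ Submonoid.powers x := by
    rw [mem_powers_iff_mem_zpowers, hRz]
    exact hg x hxR
  obtain ⟨k, hk⟩ := Submonoid.mem_powers_iff _ _ |>.1 hgx
  have hind : ∀ n : ℕ, g ^ n * x * (g ^ n)⁻¹ = x ^ (k ^ n) := by
    intro n
    induction n with
    | zero => simp
    | succ n ih =>
      calc g ^ (n + 1) * x * (g ^ (n + 1))⁻¹ = g * (g ^ n * x * (g ^ n)⁻¹) * g⁻¹ := by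
            rw [pow_succ']; group
        _ = g * x ^ (k ^ n) * g⁻¹ := by rw [ih]
        _ = (g * x * g⁻¹) ^ (k ^ n) := (conj_pow).symm
        _ = x ^ (k ^ (n + 1)) := by rw [← hk, ← pow_mul, pow_succ']
  have h1 := hind p
  rw [hgp] at h1
  have h2 : x ^ (k ^ p) = x ^ 1 := by rw [← h1]; simp
  have h3 : k ^ p ≡ 1 [MOD r] := by
    rw [← hox]; exact pow_eq_pow_iff_modEq.1 h2
  have h4 : ((k : ZMod r)) ^ p = 1 := by
    have := (ZMod.natCast_eq_natCast_iff _ _ _).2 h3
    push_cast at this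
    exact this
  have hk0 : (k : ZMod r) ≠ 0 := by
    intro h
    rw [h, zero_pow hp.ne_zero] at h4
    exact zero_ne_one h4
  have h5 : (k : ZMod r) ^ (r - 1) = 1 := ZMod.pow_card_sub_one_eq_one hk0
  have hco : Nat.gcd p (r - 1) = 1 := (Nat.Prime.coprime_iff_not_dvd hp).2 hpr
  have h6 := pow_gcd_eq_one.2 ⟨h4, h5⟩
  rw [hco, pow_one] at h6
  have h7 : k ≡ 1 [MOD r] := by
    apply (ZMod.natCast_eq_natCast_iff _ _ _).1
    push_cast
    exact h6
  have h8 : x ^ k = x ^ 1 := by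
    apply pow_eq_pow_iff_modEq.2
    rw [hox]; exact h7
  have hcx : g * x = x * g := by
    calc g * x = (g * x * g⁻¹) * g := by group
      _ = x * g := by rw [← hk, h8, pow_one]
  intro q hq
  rw [← hRz] at hq
  obtain ⟨n, rfl⟩ := Subgroup.mem_zpowers_iff.1 hq
  exact ((Commute.zpow_right (show Commute g x from hcx) n)).eq

end Cfsg.Agent.Lib.Helper71.GS
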